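import Groth.Prelude.Def_KSix
import Groth.Agent.Dcoh.PerfFlat
import Groth.Agent.Dcoh.TorAmp
import Groth.Agent.PerfA.Restrict

/-!
# Perfect amplitude in an interval

`KSix.HasPerfectAmplitudeIn m n K` (locally a complex of finite locally free modules in degrees `[m, n]`) is the same
as `(m-1)`-pseudo-coherent plus flat amplitude in `[m, n]`.

* `StrPerfIn m n`: the property "isomorphic to a complex of finite locally free modules in degrees `[m, n]`" (`isStable_strPerfIn`);
* `hasPerfectAmplitudeIn_iff_locally`;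
* `isFinLocFree_cycles`, `strPerfIn_of_flatAmplitude_of_strPC`;
* `hasFlatAmplitudeIn_of_locally`: flat amplitude is local.
-/

set_option autoImplicit false
universe u

open CategoryTheory CategoryTheory.Limits AlgebraicGeometry
attribute [local instance] HasDerivedCategory.standard

namespace Groth.Agent.Pic13.H941.PerfAmp

open Groth.Agent.Dcoh Groth.Agent.Dcoh.LocalD

variable {X Y : Scheme.{u}}

/-- `K` is isomorphic in `D(O_U)` to a complex of finite locally free modules in degrees `[m, n]`. -/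
def StrPerfIn (m n : ℤ) : PropD.{u} := fun U K =>
  ∃ E : CochainComplex U.Modules ℤ, DCoh.VanishesOutside E m n ∧
    (∀ i : ℤ, FlatMod.IsFinLocFree (E.X i)) ∧ Nonempty (K ≅ DerivedCategory.Q.obj E)

lemma isStable_strPerfIn (m n : ℤ) : IsStable (StrPerfIn.{u} m n) where
  iso e := fun ⟨E, hE, hE', ⟨a⟩⟩ => ⟨E, hE, hE', ⟨e.symm ≪≫ a⟩⟩
  restrict f _ _ := fun ⟨_, hE, hE', ⟨a⟩⟩ => ⟨_, vanishesOutside_restrict f hE,
    fun i => LocalD.isFinLocFree_restrict _ f (hE' i),
    ⟨(DCoh.restrictD f).mapIso a ≪≫ QRestrict f _⟩⟩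

/-- Perfect amplitude through the functor `restrictD`. -/
theorem hasPerfectAmplitudeIn_iff_locally (m n : ℤ) (K : DCoh.D X) :
    KSix.HasPerfectAmplitudeIn m n K ↔ Locally (StrPerfIn m n) X K := by
  constructor
  · intro h x
    obtain ⟨V, hx, hV⟩ := h x
    obtain ⟨E, hE, hE', ⟨a⟩⟩ := hV (DerivedCategory.Q.objPreimage K)
      ⟨DerivedCategory.Q.objObjPreimageIso K⟩
    exact ⟨V, hx, E, hE, hE', ⟨(DCoh.restrictD V.ι).mapIso
      (DerivedCategory.Q.objObjPreimageIso K).symm ≪≫ QRestrict V.ι _ ≪≫ a⟩⟩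
  · intro h x
    obtain ⟨V, hx, E, hE, hE', ⟨a⟩⟩ := h x
    exact ⟨V, hx, fun F ⟨b⟩ => ⟨E, hE, hE', ⟨(QRestrict V.ι F).symm ≪≫
      (DCoh.restrictD V.ι).mapIso b ≪≫ a⟩⟩⟩

lemma strPerf_of_strPerfIn {m n : ℤ} {K : DCoh.D X} (h : StrPerfIn m n X K) : StrPerf X K := by
  obtain ⟨E, hE, hE', e⟩ := h
  exact ⟨E, ⟨⟨m, n, hE⟩, hE'⟩, e⟩

theorem isPerfect_of_hasPerfectAmplitudeIn {m n : ℤ} {K : DCoh.D X}
    (h : KSix.HasPerfectAmplitudeIn m n K) : DCoh.IsPerfect K := by
  rw [isPerfect_iff_locally]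
  exact locally_mono (fun U K => strPerf_of_strPerfIn)
    ((hasPerfectAmplitudeIn_iff_locally m n K).1 h)

theorem hasFlatAmplitudeIn_of_strPerfIn {m n : ℤ} {K : DCoh.D X} (h : StrPerfIn m n X K) :
    DCoh.HasFlatAmplitudeIn m n K := by
  obtain ⟨E, hE, hE', ⟨e⟩⟩ := h
  exact ⟨E, hE, fun i => Spread.isFlat_of_isFinLocFree (hE' i), ⟨e.symm⟩⟩

section local_flat

/-- The property of having flat amplitude in `[m, n]`. -/
def FlatIn (m n : ℤ) : PropD.{u} := fun _ K => DCoh.HasFlatAmplitudeIn m n K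

lemma isStable_flatIn (m n : ℤ) : IsStable (FlatIn.{u} m n) where
  iso e h := PerfFlat.hasFlatAmplitudeIn_of_iso e h
  restrict f _ _ h := PerfFlat.hasFlatAmplitudeIn_restrict f h

/-- Flat amplitude is a local property. -/
theorem hasFlatAmplitudeIn_of_locally {m n : ℤ} (hmn : m ≤ n) {K : DCoh.D X}
    (h : Locally (FlatIn m n) X K) : DCoh.HasFlatAmplitudeIn m n K := by
  have hz : ∀ i : ℤ, (i < m ∨ n < i) → IsZero (DCoh.HD K i) := by
    intro i hi
    refine Groth.Agent.PerfA.Restrict.isZero_of_restrict_opens _ fun x => ?_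
    obtain ⟨V, hx, hV⟩ := h x
    refine ⟨V, hx, ?_⟩
    exact (TorAmp.isZero_HD_of_torAmplitude (LTMod.torAmplitude_of_flatAmplitude hV) i hi).of_iso
      (HDRestrict V.ι K i).symm
  obtain ⟨L, h1, h2, ⟨e⟩⟩ := TorAmp.exists_flat_rep K n (fun i hi => hz i (Or.inr hi))
  have h4 : FlatMod.IsFlat (L.opcycles m) := by
    intro x
    obtain ⟨V, hx, hV⟩ := h x
    let LV : CochainComplex (V : Scheme.{u}).Modules ℤ := (DCoh.restrictCx V).obj L
    have eV : DCoh.toD V LV ≅ (DCoh.restrictD V.ι).obj K :=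
      (QRestrict V.ι L).symm ≪≫ (DCoh.restrictD V.ι).mapIso e
    have hLV : ∀ i, FlatMod.IsFlat (LV.X i) := fun i => StalkRestrict.isFlat_restrict V.ι (h2 i)
    have hLE : LV.IsStrictlyLE n := by
      rw [CochainComplex.isStrictlyLE_iff]
      intro i hi
      exact (Scheme.Modules.restrictFunctor V.ι).map_isZero (L.isZero_of_isStrictlyLE n i hi)
    have hK : DCoh.IsKFlat LV := Groth.Agent.S0953.result LV n hLE hLV
    have h' : DCoh.HasTorAmplitudeIn m n (DCoh.toD V LV) :=
      LTMod.torAmplitude_of_iso eV.symm (LTMod.torAmplitude_of_flatAmplitude hV)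
    have h3 : FlatMod.IsFlat (cokernel (LV.d (m - 1) m)) :=
      TorCoker.isFlat_cokernel LV hK (m - 1) m (by omega) (hLV m)
        (fun G _ => h' G (m - 1) (Or.inl (by omega)))
    have h5 : FlatMod.IsFlat (LV.opcycles m) :=
      FlatRes.isFlat_of_iso ((cokernelIsCokernel (LV.d (m - 1) m)).coconePointUniqueUpToIso
        (LV.opcyclesIsCokernel (m - 1) m (by simp))) h3
    obtain ⟨f⟩ := PerfFlat.nonempty_opcycles_map_iso (Scheme.Modules.restrictFunctor V.ι) L m
    have h6 : FlatMod.IsFlat ((L.opcycles m).restrict V.ι) := FlatRes.isFlat_of_iso f h5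
    exact (StalkRestrict.isFlatAt_restrict_pt_iff V hx _).1 (h6 _)
  have hGE : L.IsGE m := by
    rw [CochainComplex.isGE_iff]
    intro i hi
    rw [HomologicalComplex.exactAt_iff_isZero_homology]
    exact (hz i (Or.inl hi)).of_iso
      (((DerivedCategory.homologyFunctorFactors X.Modules i).app L).symm ≪≫
        (DerivedCategory.homologyFunctor _ i).mapIso e)
  refine ⟨L.truncGE m, ?_, ?_, ⟨(asIso (DerivedCategory.Q.map (L.πTruncGE m))).symm ≪≫ e⟩⟩
  · rintro i (hi | hi)
    · exact (L.truncGE m).isZero_of_isStrictlyGE m i hi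
    · exact (L.isZero_of_isStrictlyLE n i hi).of_iso (L.truncGEXIso m i (by omega))
  · intro i
    rcases lt_trichotomy i m with hi | rfl | hi
    · exact FlatRes.isFlat_of_isZero ((L.truncGE m).isZero_of_isStrictlyGE m i hi)
    · exact FlatRes.isFlat_of_iso (L.truncGEXIsoOpcycles i).symm h4
    · exact FlatRes.isFlat_of_iso (L.truncGEXIso m i hi).symm (h2 i)

end local_flat

section cycles

/-- The cycles in degree `n` of a bounded above complex of finite locally free modules which is exact in degrees `> n`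
form a finite locally free module. -/
theorem isFinLocFree_cycles (P : CochainComplex X.Modules ℤ) (hP : ∀ i, FlatMod.IsFinLocFree (P.X i))
    (n b : ℤ) (hb : ∀ i, b < i → IsZero (P.X i)) (hex : ∀ i, n < i → IsZero (P.homology i)) :
    FlatMod.IsFinLocFree (P.cycles n) := by
  have hker : BddCx.ClosedKer (StrPerf.FLF X) := fun A B p _ hA hB => Spread.isFinLocFree_kernel p hA hB
  have h1 : FlatMod.IsFinLocFree (P.opcycles (n + 1)) :=
    BddCx.prop_opcycles (P := StrPerf.FLF X) hker (fun _ h => FinLocFree.isFinLocFree_of_isZero h)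
      P (n + 1) b (fun i _ => hP i) hb (fun i hi => hex i (by lia)) (n + 1) le_rfl
  -- the image of `P^n ⟶ P^{n+1}`
  let B := kernel (P.pOpcycles (n + 1))
  have hB : FlatMod.IsFinLocFree B := Spread.isFinLocFree_kernel _ (hP _) h1
  let q : P.X n ⟶ B := kernel.lift _ (P.d n (n + 1)) (P.d_pOpcycles _ _)
  have hq : q ≫ kernel.ι (P.pOpcycles (n + 1)) = P.d n (n + 1) := kernel.lift_ι _ _ _
  have hc : (ShortComplex.mk (P.d n (n + 1)) (P.pOpcycles (n + 1)) (P.d_pOpcycles n (n + 1))).Exact :=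
    ShortComplex.exact_of_g_is_cokernel _ (P.opcyclesIsCokernel n (n + 1) (by simp))
  have : Epi q := hc.epi_kernelLift
  have hw : P.iCycles n ≫ q = 0 := by
    rw [← cancel_mono (kernel.ι (P.pOpcycles (n + 1))), Category.assoc, hq, P.iCycles_d, zero_comp]
  have hl : IsLimit (KernelFork.ofι (P.iCycles n) hw) := by
    refine KernelFork.IsLimit.ofι' _ _ (fun {A} k hk => ?_)
    have hk' : k ≫ P.d n (n + 1) = 0 := by
      rw [← hq, ← Category.assoc, hk, zero_comp]
    exact ⟨P.liftCycles k (n + 1) (by simp) hk', P.liftCycles_i _ _ _ _⟩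
  exact Spread.isFinLocFree_of_isLimit_kernelFork (hP n) hB (P.iCycles n) q hw hl

end cycles

open DerivedCategory in
/-- An object which receives a good approximation by a strictly perfect complex in degrees `≥ m - 1` and is
represented by a flat complex in degrees `[m, n]` is represented by a complex of finite locally free modules in
degrees `[m, n]`. -/
theorem strPerfIn_of_flatAmplitude_of_strPC {K : DCoh.D X} {m n : ℤ} (hmn : m ≤ n)
    (h1 : DCoh.HasFlatAmplitudeIn m n K) (h2 : StrPC (m - 1) X K) : StrPerfIn m n X K := by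
  have hz : ∀ i, (i < m ∨ n < i) → IsZero (DCoh.HD K i) := by
    intro i hi
    obtain ⟨F, hF, hF', ⟨e⟩⟩ := h1
    have hz : IsZero (F.homology i) :=
      (HomologicalComplex.ExactAt.of_isZero (hF i hi)).isZero_homology
    exact (hz.of_iso ((homologyFunctorFactors _ i).app F)).of_iso
      ((homologyFunctor _ i).mapIso e).symm
  obtain ⟨F, hF, hF', ⟨e⟩⟩ := h1
  obtain ⟨E, α, hE, hα, -⟩ := h2
  have hα' : ∀ i, m ≤ i → IsIso ((homologyFunctor _ i).map α) := fun i hi => hα i (by lia)
  have h3 : FlatMod.IsFlat (E.opcycles m) := by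
    refine PerfFlat.isFlat_opcycles hE hF hF' (α ≫ e.inv) fun i hi => ?_
    have := hα' i hi
    rw [Functor.map_comp]
    infer_instance
  have h4 : FlatMod.IsFinLocFree (E.opcycles m) :=
    Spread.isFinLocFree_of_cokernel (hE.2 (m - 1)) (hE.2 m) (E.d (m - 1) m) (E.pOpcycles m)
      (E.d_pOpcycles _ _) (E.opcyclesIsCokernel (m - 1) m (by simp)) h3
  obtain ⟨f⟩ := BddCx.nonempty_iso_truncGE E K m (fun i hi => hz i (Or.inl hi)) α hα'
  obtain ⟨⟨a, b, hab⟩, hE'⟩ := hE
  -- the first truncation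
  let P := E.truncGE m
  have hPb : ∀ i, b < i → IsZero (P.X i) :=
    BddCx.truncGE_isZero_of_lt E m b (fun i hi => hab i (Or.inr hi))
  have hPX : ∀ i, FlatMod.IsFinLocFree (P.X i) :=
    BddCx.prop_truncGE_X (P := StrPerf.FLF X) (fun _ h => FinLocFree.isFinLocFree_of_isZero h) E m h4
      (fun i _ => hE' i)
  have hPex : ∀ i, n < i → IsZero (P.homology i) := by
    intro i hi
    exact (hz i (Or.inr hi)).of_iso (((homologyFunctorFactors _ i).app P).symm ≪≫
      (homologyFunctor _ i).mapIso f.symm)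
  have hcyc := isFinLocFree_cycles P hPX n b hPb hPex
  have hLE : P.IsLE n := by
    rw [CochainComplex.isLE_iff]
    intro i hi
    rw [HomologicalComplex.exactAt_iff_isZero_homology]
    exact hPex i hi
  refine ⟨P.truncLE n, ?_, ?_, ⟨f ≪≫ (asIso (Q.map (P.ιTruncLE n))).symm⟩⟩
  · rintro i (hi | hi)
    · exact ((E.truncGE m).isZero_of_isStrictlyGE m i hi).of_iso (P.truncLEXIso n i (by lia))
    · exact (P.truncLE n).isZero_of_isStrictlyLE n i hi
  · intro i
    rcases lt_trichotomy i n with hi | rfl | hi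
    · exact FinLocFree.isFinLocFree_of_iso (P.truncLEXIso n i hi).symm (hPX i)
    · exact FinLocFree.isFinLocFree_of_iso (P.truncLEXIsoCycles i).symm hcyc
    · exact FinLocFree.isFinLocFree_of_isZero ((P.truncLE n).isZero_of_isStrictlyLE n i hi)

/-- Perfect amplitude in `[m, n]` is `(m-1)`-pseudo-coherence plus flat amplitude in `[m, n]`. -/
theorem hasPerfectAmplitudeIn_iff {m n : ℤ} (hmn : m ≤ n) (K : DCoh.D X) :
    KSix.HasPerfectAmplitudeIn m n K ↔
      DCoh.IsPseudoCoherentD (m - 1) K ∧ DCoh.HasFlatAmplitudeIn m n K := by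
  constructor
  · intro h
    refine ⟨isPseudoCoherentD_of_isPerfect _ (isPerfect_of_hasPerfectAmplitudeIn h), ?_⟩
    exact hasFlatAmplitudeIn_of_locally hmn (locally_mono (fun U K => hasFlatAmplitudeIn_of_strPerfIn)
      ((hasPerfectAmplitudeIn_iff_locally m n K).1 h))
  · rintro ⟨h1, h2⟩
    rw [hasPerfectAmplitudeIn_iff_locally]
    rw [isPseudoCoherentD_iff_locally] at h1
    intro x
    obtain ⟨V, hx, hV⟩ := h1 x
    exact ⟨V, hx, strPerfIn_of_flatAmplitude_of_strPC hmn
      (PerfFlat.hasFlatAmplitudeIn_restrict V.ι h2) hV⟩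

end Groth.Agent.Pic13.H941.PerfAmp
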